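import Cfsg.Agent.H341.ThreeList_m3
import Cfsg.Agent.ClassicalGeometry.PSL2Basic
import Cfsg.Agent.S0813
import Cfsg.Agent.S0815
import Cfsg.Agent.H369.Socle
import Cfsg.Agent.Lib.SolvableNormalP
import Cfsg.Agent.H348.Der.Class
import Cfsg.Agent.H834.Sax.Tool
import Cfsg.Agent.H185.NFTd
import Cfsg.Agent.FastGrp
import Cfsg.Agent.Prune
set_option linter.all false
prune_inst 0x7f00000000000000000000000000000000000000000000000000000000000000000000000000000000000000000000000000000000000000000000000000000000000000000000000000000000000000003fffffffffffffffffffffffffffbeffbdffffffff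
open scoped Cfsg.Agent.FastGrp

-- part: H788/Der/Kn
section
/-!
# The simple groups whose order divides `2 ^ 12 * 3 ^ 4 * 7 ^ 2` (helper788)

`cases_dvd` : orders `168`, `504`, `6048`, with the orders of the automorphism groups; the group of order `6048` has no
element of order nine.
-/

set_option autoImplicit false

namespace Cfsg.Agent.H788.Der.DTwo

open Subgroup Cfsg Cfsg.Agent.OrdDiv

theorem cube_of_three_pow {F : Type*} [Field F] [CharP F 3] (M : Matrix (Fin 3) (Fin 3) F) {a : ℕ}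
    (h : M ^ 3 ^ a = 1) : M ^ 3 = 1 := by
  have i3 : Fact (Nat.Prime 3) := ⟨Nat.prime_three⟩
  have h1 : (M - 1) ^ 3 ^ a = 0 := by
    rw [sub_pow_char_pow_of_commute (p := 3) a (Commute.one_right M), h, one_pow, sub_self]
  have h2 : IsNilpotent (M - 1) := ⟨_, h1⟩
  have h3 := Matrix.isNilpotent_charpoly_sub_pow_of_isNilpotent h2
  rw [isNilpotent_iff_eq_zero, sub_eq_zero, Fintype.card_fin] at h3
  have h4 := Matrix.aeval_self_charpoly (M - 1)
  rw [h3, map_pow, Polynomial.aeval_X] at h4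
  have h5 : (M - 1) ^ 3 = M ^ 3 - 1 := by
    have := sub_pow_char_of_commute (p := 3) (Commute.one_right M)
    rw [this, one_pow]
  rw [h5, sub_eq_zero] at h4
  exact h4

/-- no elements of order nine in `PSU₃(3)` -/
theorem no_nine {F : Type} [Field F] [Fintype F] (hF : Fintype.card F = 3 ^ 2) (x : PSU 3 F 3) : orderOf x ≠ 9 := by
  classical
  have i3 : Fact (Nat.Prime 3) := ⟨Nat.prime_three⟩
  have hch : CharP F 3 := by
    obtain ⟨p, hp⟩ := CharP.exists F
    obtain ⟨n, hp', hn⟩ := FiniteField.card F p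
    rw [hF] at hn
    have h3 : p ∣ 3 := by
      apply hp'.dvd_of_dvd_pow (n := 2)
      rw [hn]
      exact dvd_pow_self p n.ne_zero
    rw [(Nat.prime_dvd_prime_iff_eq hp' Nat.prime_three).1 h3] at hp
    exact hp
  intro hx
  obtain ⟨g, rfl⟩ := QuotientGroup.mk_surjective x
  obtain ⟨a, b, hb, hab⟩ := Nat.exists_eq_pow_mul_and_not_dvd (orderOf_pos g).ne' 3 (by norm_num)
  -- `g ^ b` has order `3 ^ a`
  have h1 : (g ^ b) ^ 3 ^ a = 1 := by
    rw [← pow_mul, mul_comm, ← hab]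
    exact pow_orderOf_eq_one g
  have h2 : (g ^ b) ^ 3 = 1 := by
    have h3 : ((g ^ b : SU 3 F 3) : Matrix.SpecialLinearGroup (Fin 3) F).1 ^ 3 ^ a = 1 := by
      have := congrArg (fun y : SU 3 F 3 => (y : Matrix.SpecialLinearGroup (Fin 3) F).1) h1
      simpa only [_root_.SubmonoidClass.coe_pow, _root_.Matrix.SpecialLinearGroup.coe_pow, _root_.OneMemClass.coe_one, _root_.Matrix.SpecialLinearGroup.coe_one] using this
    have h4 := cube_of_three_pow _ h3
    apply Subtype.ext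
    apply Subtype.ext
    simpa only [_root_.SubmonoidClass.coe_pow, _root_.Matrix.SpecialLinearGroup.coe_pow, _root_.OneMemClass.coe_one, _root_.Matrix.SpecialLinearGroup.coe_one] using h4
  have h5 : (QuotientGroup.mk g : PSU 3 F 3) ^ (b * 3) = 1 := by
    rw [pow_mul, ← QuotientGroup.mk_pow, ← QuotientGroup.mk_pow, h2, QuotientGroup.mk_one]
  have h6 := orderOf_dvd_of_pow_eq_one h5
  rw [hx] at h6
  apply hb
  exact Nat.dvd_of_mul_dvd_mul_right (by norm_num : 0 < 3) (by simpa using h6)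

theorem cand_237 : ∀ g ∈ cands [(2, 12), (3, 4), (7, 2)] 16257024,
    g = .psl 2 7 ∨ g = .psl 2 8 ∨ g = .psl 3 2 ∨ g = .psu 3 3 := by decide +kernel

/-- **The simple groups whose order divides `2 ^ 12 * 3 ^ 4 * 7 ^ 2`.** -/
theorem cases_dvd (Tb : OrderTable.{0}) {S : Type} [Group S] [Finite S] (hk : IsKnownSimple' S)
    (hna : ¬ ∀ a b : S, a * b = b * a) (hd : Nat.card S ∣ 16257024) :
    (Nat.card S = 168 ∧ Nat.card (MulAut S) = 336) ∨ (Nat.card S = 504 ∧ Nat.card (MulAut S) = 1512) ∨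
      (Nat.card S = 6048 ∧ Nat.card (MulAut S) = 12096 ∧ ∀ x : S, orderOf x ≠ 9) := by
  have i2 : Fact (Nat.Prime 2) := ⟨Nat.prime_two⟩
  have i3 : Fact (Nat.Prime 3) := ⟨Nat.prime_three⟩
  have i7 : Fact (Nat.Prime 7) := ⟨by norm_num⟩
  obtain ⟨g, hg, hR, ho⟩ := exists_good Tb hk hna (l := [(2, 12), (3, 4), (7, 2)]) (N := 16257024)
    (by decide +kernel) hd
  rcases cand_237 g hg with rfl | rfl | rfl | rfl
  · obtain ⟨F, _, _, hF, ⟨e⟩⟩ := hR
    have ho' : Nat.card S = 168 := ho.trans (by decide +kernel)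
    refine Or.inl ⟨ho', ?_⟩
    rw [Nat.card_congr (MulAut.congr e).toEquiv, S0813.result 7 1 le_rfl (by rw [hF]; rfl) 2 le_rfl (by norm_num)]
    have h2 := ClassicalGeometry.PSL2Basic.card_PGL_mul (Fin 2) F
    rw [Matrix.card_GL_field, hF] at h2
    have h3 : (∏ i : Fin 2, (7 ^ 2 - 7 ^ (i : ℕ)) : ℕ) = 336 * 6 := by decide +kernel
    rw [h3] at h2
    rw [if_pos rfl]
    omega
  · obtain ⟨F, _, _, hF, ⟨e⟩⟩ := hR
    have ho' : Nat.card S = 504 := ho.trans (by decide +kernel)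
    refine Or.inr (Or.inl ⟨ho', ?_⟩)
    rw [Nat.card_congr (MulAut.congr e).toEquiv, S0813.result 2 3 (by norm_num) (by rw [hF]; rfl) 2 le_rfl (by norm_num)]
    have h2 := ClassicalGeometry.PSL2Basic.card_PGL_mul (Fin 2) F
    rw [Matrix.card_GL_field, hF] at h2
    have h3 : (∏ i : Fin 2, (8 ^ 2 - 8 ^ (i : ℕ)) : ℕ) = 504 * 7 := by decide +kernel
    rw [h3] at h2
    rw [if_pos rfl]
    omega
  · obtain ⟨F, _, _, hF, ⟨e⟩⟩ := hR
    have ho' : Nat.card S = 168 := ho.trans (by decide +kernel)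
    refine Or.inl ⟨ho', ?_⟩
    rw [Nat.card_congr (MulAut.congr e).toEquiv, S0813.result 2 1 le_rfl (by rw [hF]; rfl) 3 (by norm_num) (by norm_num)]
    have h2 := ClassicalGeometry.PSL2Basic.card_PGL_mul (Fin 3) F
    rw [Matrix.card_GL_field, hF] at h2
    have h3 : (∏ i : Fin 3, (2 ^ 3 - 2 ^ (i : ℕ)) : ℕ) = 168 := by decide +kernel
    rw [h3] at h2
    rw [if_neg (by norm_num)]
    omega
  · obtain ⟨F, _, _, hF, ⟨e⟩⟩ := hR
    have ho' : Nat.card S = 6048 := ho.trans (by decide +kernel)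
    refine Or.inr (Or.inr ⟨ho', ?_, ?_⟩)
    · rw [Nat.card_congr (MulAut.congr e).toEquiv, S0815.result 3 1 le_rfl (by norm_num) hF 3 le_rfl (by norm_num),
        ← Nat.card_congr e.toEquiv, ho']
      norm_num
    · intro x hx
      exact no_nine hF (e x) (by rw [← hx]; exact orderOf_injective e.toMonoidHom e.injective x)

end Cfsg.Agent.H788.Der.DTwo
end

-- part: H788/Der/DTwo
section
/-!
# Derangements of `³D₄(2)`: the subgroups of order prime to 13 (helper788)
-/

set_option autoImplicit false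

namespace Cfsg.Agent.H788.Der.DTwo

open Subgroup Cfsg Cfsg.Agent.OrdDiv Cfsg.Agent.H439.Der Cfsg.Agent.H938.Sax Cfsg.Agent.H369.Socle

section general

variable {G : Type*} [Group G] [Finite G]

/-- an element of `p`-power order is conjugate into a Sylow `p`-subgroup -/
theorem conj_into {p : ℕ} [Fact p.Prime] {Q : Subgroup G} (hQ : IsPGroup p Q) (h : ¬ p ∣ Q.index) {x : G} {k : ℕ}
    (hx : x ^ p ^ k = 1) : ∃ g : G, g * x * g⁻¹ ∈ Q := by
  let P := hQ.toSylow h
  have h3 : IsPGroup p (zpowers x) := by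
    rintro ⟨y, hy⟩
    obtain ⟨i, rfl⟩ := mem_zpowers_iff.1 hy
    refine ⟨k, Subtype.ext ?_⟩
    show (x ^ i) ^ p ^ k = 1
    rw [← zpow_natCast, ← zpow_mul, mul_comm, zpow_mul, zpow_natCast, hx, one_zpow]
  obtain ⟨S, hS⟩ := h3.exists_le_sylow
  obtain ⟨g, hg⟩ := MulAction.exists_smul_eq G S P
  refine ⟨g, ?_⟩
  have h6 : x ∈ S := hS (mem_zpowers x)
  have h7 : g * x * g⁻¹ ∈ P := by
    rw [← hg]
    exact smul_mem_pointwise_smul _ (MulAut.conj g) _ h6
  exact h7

omit [Group G] [Finite G] in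
theorem num3 {k j : ℕ} (hk : k ≤ 4) (hj : j ≤ k) (h : 3 ^ k ≡ 3 ^ j [MOD 7]) : j = k := by
  interval_cases k <;> interval_cases j <;> first | rfl | exact absurd h (by decide)

/-- an element of order 7 centralises a normalised 3-subgroup of order at most 81 -/
theorem centralizes {P : Subgroup G} {k : ℕ} (hk : Nat.card P = 3 ^ k) (hk4 : k ≤ 4) {x : G} (hx : orderOf x = 7)
    (hn : x ∈ normalizer (P : Set G)) : ∀ y ∈ P, y * x = x * y := by
  have i7 : Fact (Nat.Prime 7) := ⟨by norm_num⟩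
  let f : zpowers x →* MulAut P := (P.normalizerMonoidHom).comp (Subgroup.inclusion (zpowers_le.2 hn))
  letI : MulAction (zpowers x) P := MulAction.compHom P f
  have hp : IsPGroup 7 (zpowers x) := IsPGroup.of_card (n := 1) (by rw [Nat.card_zpowers, hx, pow_one])
  have h1 := hp.card_modEq_card_fixedPoints P
  have hsm : ∀ (a : zpowers x) (y : P), ((a • y : P) : G) = a * y * (a : G)⁻¹ := fun a y => rfl
  have h2 : Nat.card (MulAction.fixedPoints (zpowers x) P) = Nat.card ↥(P ⊓ centralizer ({x} : Set G)) := by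
    refine Nat.card_congr ⟨fun y => ⟨y.1, y.1.2, ?_⟩, fun y => ⟨⟨y.1, y.2.1⟩, ?_⟩, fun _ => rfl, fun _ => rfl⟩
    · have h3 := congrArg Subtype.val (y.2 ⟨x, mem_zpowers x⟩)
      rw [hsm] at h3
      refine mem_centralizer_singleton_iff.2 ?_
      exact (mul_inv_eq_iff_eq_mul.1 h3).symm
    · intro a
      apply Subtype.ext
      rw [hsm]
      have h3 : (y : G) * x = x * y := mem_centralizer_singleton_iff.1 y.2.2
      obtain ⟨i, hi⟩ := mem_zpowers_iff.1 a.2
      have h4 : Commute (y : G) (x ^ i) := (show Commute (y : G) x from h3).zpow_right i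
      rw [← hi, mul_inv_eq_iff_eq_mul]
      exact h4.symm
  have h3 : Nat.card ↥(P ⊓ centralizer ({x} : Set G)) ∣ 3 ^ k := by
    rw [← hk]
    exact card_dvd_of_le inf_le_left
  obtain ⟨j, hj, h4⟩ := (Nat.dvd_prime_pow Nat.prime_three).1 h3
  rw [h2, h4, hk] at h1
  have h5 : j = k := num3 hk4 hj h1
  have h6 : P ⊓ centralizer ({x} : Set G) = P := Subgroup.eq_of_le_of_card_ge inf_le_left (by rw [h4, hk, h5])
  intro y hy
  rw [← h6] at hy
  exact mem_centralizer_singleton_iff.1 hy.2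

/-- a nonsolvable radical: a normal `p`-subgroup -/
theorem exists_normal_p {H : Type*} [Group H] [Finite H] (hN : ¬ NoSol H) :
    ∃ (p : ℕ) (P : Subgroup H), p.Prime ∧ P.Normal ∧ IsPGroup p P ∧ P ≠ ⊥ := by
  unfold NoSol at hN
  push Not at hN
  obtain ⟨K, hK, hs, hne⟩ := hN
  have : Nontrivial K := (nontrivial_iff_ne_bot K).2 hne
  obtain ⟨D, hDc, hDm, hD⟩ := Lib.SolvableNormalP.exists_comm_characteristic K
  have hD'n : (D.map K.subtype).Normal := inferInstance
  have hcomm : ∀ a b : D.map K.subtype, a * b = b * a := by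
    rintro ⟨a, ha⟩ ⟨b, hb⟩
    obtain ⟨a, ha, rfl⟩ := ha
    obtain ⟨b, hb, rfl⟩ := hb
    apply Subtype.ext
    exact congrArg (fun x : D => ((x : K) : H)) (hDm.is_comm.comm ⟨a, ha⟩ ⟨b, hb⟩)
  have hD'1 : D.map K.subtype ≠ ⊥ := by
    rw [Ne, Subgroup.map_eq_bot_iff_of_injective _ K.subtype_injective]
    exact hD
  generalize D.map K.subtype = E at hD'n hcomm hD'1
  have hcard : Nat.card E ≠ 1 := by
    rw [Ne, Subgroup.card_eq_one]; exact hD'1
  obtain ⟨p, hp, hpd⟩ := Nat.exists_prime_and_dvd hcard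
  have : Fact p.Prime := ⟨hp⟩
  obtain ⟨P⟩ : Nonempty (Sylow p E) := inferInstance
  have hPn : (P : Subgroup E).Normal := by
    constructor
    intro n hn g
    rwa [hcomm g n, mul_inv_cancel_right]
  have hPc : (P : Subgroup E).Characteristic := P.characteristic_of_normal hPn
  refine ⟨p, (P : Subgroup E).map E.subtype, hp, inferInstance, P.2.map _, ?_⟩
  rw [Ne, Subgroup.map_eq_bot_iff_of_injective _ E.subtype_injective]
  exact P.ne_bot_of_dvd_card hpd

/-- a subgroup of prime order is generated by an element -/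
theorem exists_zpowers {p : ℕ} (hp : p.Prime) {L : Subgroup G} (hL : Nat.card L = p) :
    ∃ x : G, orderOf x = p ∧ L = zpowers x := by
  have := Fact.mk hp
  have hc : IsCyclic L := isCyclic_of_prime_card hL
  obtain ⟨g, hg⟩ := hc.exists_generator
  have ho : orderOf (g : G) = p := by
    rw [Subgroup.orderOf_coe, orderOf_eq_card_of_forall_mem_zpowers hg, hL]
  refine ⟨g, ho, ?_⟩
  symm
  refine Subgroup.eq_of_le_of_card_ge (zpowers_le.2 g.2) ?_
  rw [Nat.card_zpowers, ho, hL]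

/-- a group with a normal subgroup of trivial centralizer -/
theorem card_dvd_mulaut {H : Type*} [Group H] [Finite H] (T : Subgroup H) [T.Normal]
    (hC : centralizer (T : Set H) = ⊥) : Nat.card H ∣ Nat.card (MulAut T) := by
  have h1 : (MulAut.conjNormal (H := T) : H →* MulAut T).ker = ⊥ := by
    rw [eq_bot_iff, ← hC]
    intro h hh
    rw [mem_centralizer_iff]
    intro t ht
    have h2 : ((MulAut.conjNormal h ⟨t, ht⟩ : T) : H) = t := by
      rw [MonoidHom.mem_ker.1 hh]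
      rfl
    rw [MulAut.conjNormal_apply, mul_inv_eq_iff_eq_mul] at h2
    exact h2.symm
  exact Subgroup.card_dvd_of_injective _ ((MonoidHom.ker_eq_bot_iff _).1 h1)

end general

section lines

variable {G : Type*} [Group G] [Finite G]

open Pointwise in
/-- groups of order 9 acting on a group of order 49 fix a line -/
theorem nine_lines (hexp : ∀ x : G, x ^ 49 = 1 → x ^ 7 = 1)
    (h9 : ∀ x : G, orderOf x = 7 → ¬ 9 ∣ Nat.card (normalizer (zpowers x : Set G))) {E : Subgroup G}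
    (hE : Nat.card E = 49) : ¬ 9 ∣ Nat.card (normalizer (E : Set G)) := by
  classical
  intro h
  have i3 : Fact (Nat.Prime 3) := ⟨Nat.prime_three⟩
  have i7 : Nat.Prime 7 := by norm_num
  obtain ⟨Q0, hQ0⟩ := Sylow.exists_subgroup_card_pow_prime 3 (n := 2) (G := normalizer (E : Set G)) h
  obtain ⟨Q, hQE, hQ⟩ : ∃ Q : Subgroup G, Q ≤ normalizer (E : Set G) ∧ Nat.card Q = 9 := by
    refine ⟨Q0.map (Subgroup.subtype _), map_subtype_le _, ?_⟩
    rw [Nat.card_congr (Subgroup.equivMapOfInjective _ _ (Subgroup.subtype_injective _)).toEquiv.symm, hQ0]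
    norm_num
  letI : MulAction Q (Subgroup G) := MulAction.compHom (Subgroup G) ((MulAut.conj (G := G)).comp Q.subtype)
  have hsm : ∀ (q : Q) (L : Subgroup G), q • L = MulAut.conj (q : G) • L := fun _ _ => rfl
  have hEq : ∀ q : Q, MulAut.conj (q : G) • E = E := by
    intro q
    have h1 := hQE q.2
    rw [Subgroup.mem_normalizer_iff] at h1
    ext x
    rw [Subgroup.mem_pointwise_smul_iff_inv_smul_mem]
    have h2 := h1 ((q : G)⁻¹ * x * q)
    have h3 : (q : G) * ((q : G)⁻¹ * x * q) * (q : G)⁻¹ = x := by group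
    rw [h3] at h2
    rw [← h2, ← map_inv]
    show (q : G)⁻¹ * x * (q : G)⁻¹⁻¹ ∈ E ↔ _
    rw [inv_inv]
  let A : SubMulAction Q (Subgroup G) :=
    { carrier := {L | L ≤ E ∧ Nat.card L = 7}
      smul_mem' := by
        rintro q L ⟨h1, h2⟩
        constructor
        · rw [hsm, ← hEq q]
          exact Subgroup.pointwise_smul_le_pointwise_smul_iff.2 h1
        · rw [hsm, ← h2]
          exact Nat.card_congr (Subgroup.equivSMul _ L).toEquiv.symm }
  have hp : IsPGroup 3 Q := IsPGroup.of_card (n := 2) (by rw [hQ]; norm_num)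
  have h1 := hp.card_modEq_card_fixedPoints A
  -- the number of lines
  have hA : Nat.card A = 8 := by
    let X := {y : G // y ∈ E ∧ y ≠ 1}
    have hX : Nat.card X = 48 := by
      have h2 : Nat.card {y : E // y ≠ 1} = 48 := by
        have := Fintype.ofFinite E
        rw [Nat.card_eq_fintype_card, Fintype.card_subtype_compl, Fintype.card_subtype_eq, ← Nat.card_eq_fintype_card,
          hE]
      rw [← h2]
      refine Nat.card_congr ⟨fun y => ⟨⟨y.1, y.2.1⟩, fun h => y.2.2 (congrArg Subtype.val h)⟩,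
        fun y => ⟨y.1.1, y.1.2, fun h => y.2 (Subtype.ext h)⟩, fun _ => rfl, fun _ => rfl⟩
    have ho : ∀ y : X, orderOf y.1 = 7 := by
      intro y
      have h2 : y.1 ^ 49 = 1 := by
        have h3 : (⟨y.1, y.2.1⟩ : E) ^ Nat.card E = 1 := pow_card_eq_one'
        rw [hE] at h3
        exact congrArg Subtype.val h3
      have := Fact.mk i7
      exact orderOf_eq_prime (hexp _ h2) y.2.2
    let f : X → A := fun y => ⟨zpowers y.1, zpowers_le.2 y.2.1, by rw [Nat.card_zpowers, ho y]⟩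
    have := Fintype.ofFinite X
    have := Fintype.ofFinite A
    have h2 : Nat.card X = ∑ a : A, Nat.card {x : X // f x = a} := by
      rw [← Nat.card_sigma]
      exact Nat.card_congr (Equiv.sigmaFiberEquiv f).symm
    have h3 : ∀ a : A, Nat.card {x : X // f x = a} = 6 := by
      intro a
      have ha : Nat.card a.1 = 7 := a.2.2
      have h4 : Nat.card {y : a.1 // y ≠ 1} = 6 := by
        have := Fintype.ofFinite a.1
        rw [Nat.card_eq_fintype_card, Fintype.card_subtype_compl, Fintype.card_subtype_eq, ← Nat.card_eq_fintype_card,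
          ha]
      rw [← h4]
      have h5 : ∀ y : a.1, y ≠ 1 → zpowers (y : G) = a.1 := by
        intro y hy
        have hy1 : (y : G) ≠ 1 := fun h => hy (Subtype.ext h)
        refine Subgroup.eq_of_le_of_card_ge (zpowers_le.2 y.2) ?_
        rw [Nat.card_zpowers, ho ⟨y, a.2.1 y.2, hy1⟩, ha]
      refine Nat.card_congr ⟨fun x => ⟨⟨x.1.1, ?_⟩, ?_⟩, fun y => ⟨⟨y.1.1, a.2.1 y.1.2, ?_⟩, ?_⟩, fun _ => rfl,
        fun _ => rfl⟩
      · have h6 : zpowers x.1.1 = a.1 := congrArg Subtype.val x.2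
        rw [← h6]
        exact mem_zpowers _
      · exact fun h => x.1.2.2 (congrArg Subtype.val h)
      · exact fun h => y.2 (Subtype.ext h)
      · exact Subtype.ext (h5 y.1 y.2)
    rw [hX, Finset.sum_congr rfl fun a _ => h3 a, Finset.sum_const, Finset.card_univ, smul_eq_mul,
      ← Nat.card_eq_fintype_card] at h2
    omega
  rw [hA] at h1
  have h2 : Nat.card (MulAction.fixedPoints Q A) ≠ 0 := by
    intro h0
    rw [h0] at h1
    exact absurd h1 (by decide)
  have h3 : Nonempty (MulAction.fixedPoints Q A) := by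
    by_contra h4
    rw [not_nonempty_iff] at h4
    exact h2 Nat.card_of_isEmpty
  obtain ⟨⟨L, hL⟩⟩ := h3
  obtain ⟨x, hx, hLx⟩ := exists_zpowers i7 L.2.2
  apply h9 x hx
  rw [← hLx, ← hQ]
  apply card_dvd_of_le
  intro q hq
  have h4 : MulAut.conj q • L.1 = L.1 := congrArg Subtype.val (hL ⟨q, hq⟩)
  rw [Subgroup.mem_normalizer_iff]
  intro y
  constructor
  · intro hy
    rw [← h4]
    exact smul_mem_pointwise_smul _ (MulAut.conj q) _ hy
  · intro hy
    rw [← h4] at hy
    rw [Subgroup.mem_pointwise_smul_iff_inv_smul_mem] at hy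
    have h5 : (MulAut.conj q)⁻¹ • (q * y * q⁻¹) = y := by
      show q⁻¹ * (q * y * q⁻¹) * q = y
      group
    rwa [h5] at hy

end lines

end Cfsg.Agent.H788.Der.DTwo
end

-- part: H788/Der/DTwoBT
section
/-!
# 2-local subgroups of `³D₄(2)` (helper788)

`two_local` : their orders divide `2 ^ m * 63` and their elements of order 7 commute with involutions.
-/

set_option autoImplicit false
set_option linter.unusedSectionVars false

namespace Cfsg.Agent.H788.Der.DTwo

open CoxeterSystem Cfsg Cfsg.Lie Cfsg.Agent.ChevalleyStructure Cfsg.Agent.ChevalleyStructure.CoxeterGeom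
  Cfsg.Agent.ChevalleyStructure.CoxeterGeomTypes
  Cfsg.Agent.Tits.Roots Cfsg.Agent.Tits.Core Cfsg.Agent.Nodes.Reps Cfsg.Agent.Nodes.BNOf
  Cfsg.Agent.Nodes.RGDChev
  Cfsg.Agent.Nodes.StabComb Cfsg.Agent.Nodes.Bruhat Cfsg.Agent.Nodes.LeviDec
  Cfsg.Agent.ParSys.RootCount Cfsg.Agent.ParSys.RootExc
open Cfsg.Agent.Nodes.RGDFold hiding refl
open Cfsg.Agent.KFacts.RgdCharP Cfsg.Agent.H585.SuOwn
open Cfsg.Agent.H35.Poin hiding PJ_empty
open Cfsg.Agent.Nodes.RGDTwD4 Cfsg.Agent.ClosedExc.TwD4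

theorem comm_of_two {G : Type*} [Group G] {z t : G} (hz : orderOf z = 2) (h5 : t * z * t⁻¹ ∈ Subgroup.zpowers z) :
    t * z = z * t := by
  have h7 : orderOf (t * z * t⁻¹) = 2 := by rw [Cfsg.Agent.H439.Der.orderOf_conj, hz]
  obtain ⟨n, hn⟩ := Subgroup.mem_zpowers_iff.1 h5
  have h8 : z ^ (n % (2 : ℤ)) = t * z * t⁻¹ := by
    rw [← hn, ← zpow_mod_orderOf z n, hz]
    rfl
  rcases Int.emod_two_eq_zero_or_one n with h9 | h9
  · rw [h9, zpow_zero] at h8
    rw [← h8, orderOf_one] at h7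
    norm_num at h7
  · rw [h9, zpow_one] at h8
    exact mul_inv_eq_iff_eq_mul.1 h8.symm

theorem two_local {K : Type} [Field K] [Fintype K] (hK : Fintype.card K = 2 ^ 3)
    (P : Subgroup ↥(twistedD4 K 2)) (hP : IsPGroup 2 P) (hP1 : P ≠ ⊥)
    (Y : Subgroup ↥(twistedD4 K 2)) (hY : Y ≤ Subgroup.normalizer (P : Set ↥(twistedD4 K 2))) :
    (∃ m, Nat.card Y ∣ 2 ^ m * 63) ∧
      ∀ x ∈ Y, orderOf x = 7 → ∃ z : ↥(twistedD4 K 2), orderOf z = 2 ∧ z * x = x * z := by
  classical
  have hq : IsPrimePow 2 := Nat.prime_two.isPrimePow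
  have i2 : Fact (Nat.Prime 2) := ⟨Nat.prime_two⟩
  have i7 : Fact (Nat.Prime 7) := ⟨by norm_num⟩
  have hch : CharP K 2 := by
    obtain ⟨r, hr⟩ := CharP.exists K
    have hrp : r.Prime := CharP.char_is_prime K r
    obtain ⟨m, -, hm⟩ := FiniteField.card K r
    rw [hK] at hm
    have : 2 = r := by
      have h1 : 2 ∣ r ^ (m : ℕ) := by rw [← hm]; exact dvd_pow_self 2 (by omega)
      exact (Nat.prime_dvd_prime_iff_eq Nat.prime_two hrp).1 (Nat.prime_two.dvd_of_dvd_pow h1)
    rw [this]; exact hr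
  have hTfin : Finite ↥(twistedD4 K 2) := inferInstance
  obtain ⟨φ, hφ⟩ := D4Fixed.exists_frob hq hK
  have hle := D4Fixed.twisted_le_fix hK hφ
  let cs := CoxeterMatrix.G₂.toCoxeterSystem
  have hW : Finite CoxeterMatrix.G₂.Group := Cfsg.Agent.Nodes.RGDFold.finite_W
    (hp := Cfsg.Agent.Nodes.RGDTwD4.hp) cs isCartan foldData
  have R := _root_.Cfsg.Agent.Nodes.RGDTwD4.rgd cs hK hφ 2
  have c0 := card_X0 hφ hle hq.two_le hK
  have c1 := card_X1 (K := K) hφ hle
  rw [hK] at c1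
  have hBT : KFacts.RgdCharP.BT cs isCartan 2 _ (X φ 2) :=
    fun K' hK' hK1 => KFacts.RgdFilt.borel_tits_of_filt
      (KFacts.RgdFiltTwAll.filt_fold cs isCartan foldData (foldGrp hφ hle) 2) (_root_.Cfsg.Agent.Nodes.RGDTwD4.G1_eq_top cs hK hφ) hK' hK1
  obtain ⟨m, hm⟩ := IsPGroup.iff_card.1 R.isPGroup_Upos
  have hT : Nat.card ↥(T K 2) = 7 := by
    have h1 := Cfsg.Agent.S1106.result hq hK
    have h2 : Nat.card ↥(T K 2) = (2 - 1) ^ 2 * (2 ^ 2 + 2 + 1) := by
      rw [← h1]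
      exact Nat.card_congr (Subgroup.subgroupOfEquivOfLe inf_le_right).toEquiv
    exact h2.trans (by norm_num)
  have hPJ : ∀ j : Fin 2, Nat.card ↥(PJ cs isCartan (T K 2) (X φ 2) {j}) =
      (1 + Nat.card (X φ 2 (sr j))) * (2 ^ m * 7) := by
    intro j
    rw [card_PJ_path R (J := {j}) (c := fun _ => j) (m := 1) (y := Nat.card (X φ 2 (sr j)))
      ⟨fun t ht => rfl, fun t ht => by omega, fun s t h1 h2 => by omega, fun i hi h1 => by
        exact absurd (Set.mem_singleton_iff.1 hi).symm (h1 0 (by norm_num)), fun s hs t ht _ => by omega⟩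
      (fun t _ => rfl)]
    have h1 : ({j} : Set (Fin 2)) \ {i | ∃ t < 1, (fun _ : ℕ => j) t = i} = ∅ := by
      ext i
      simp only [Set.mem_sdiff, Set.mem_singleton_iff, Set.mem_ofPred_eq, Set.mem_empty_iff_false, iff_false,
        not_and, not_not]
      rintro rfl
      exact ⟨0, by norm_num, rfl⟩
    rw [h1, Cfsg.Agent.H35.Poin.PJ_empty, card_B' R, hm, hT]
    simp only [Finset.sum_range_succ, _root_.Finset.range_one, _root_.Nat.card_eq_fintype_card, _root_.Finset.prod_singleton, _root_.Finset.range_zero, _root_.Finset.sum_empty, _root_.pow_zero, _root_.zero_add, _root_.pow_one]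
  obtain ⟨g, J, hJ, hKV, hNP⟩ := hBT P hP hP1
  obtain ⟨i, hi⟩ := (Set.ne_univ_iff_exists_notMem _).1 hJ
  have hJi : J ⊆ {i}ᶜ := fun j hj => by
    rw [Set.mem_compl_iff, Set.mem_singleton_iff]
    rintro rfl
    exact hi hj
  have h1 : Y ≤ cj g (PJ cs isCartan (T K 2) (X φ 2) {i}ᶜ) := hY.trans (hNP.trans (cj_mono g (PJ_mono hJi)))
  have hcompl : ∃ j : Fin 2, ({i}ᶜ : Set (Fin 2)) = {j} := by
    fin_cases i
    · refine ⟨1, ?_⟩
      ext k
      (revert k; simp only [_root_.Fin.forall_fin_succ, _root_.Fin.zero_eta, Fin.isValue, _root_.Set.mem_compl_iff, _root_.Set.mem_singleton_iff, _root_.not_true_eq_false, _root_.zero_ne_one, _root_.Fin.succ_ne_zero, _root_.not_false_eq_true, _root_.true_iff, _root_.Fin.succ_zero_eq_one, _root_.IsEmpty.forall_iff, _root_.and_self])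
    · refine ⟨0, ?_⟩
      ext k
      (revert k; simp only [_root_.Fin.forall_fin_succ, _root_.Fin.mk_one, Fin.isValue, _root_.Set.mem_compl_iff, _root_.Set.mem_singleton_iff, _root_.zero_ne_one, _root_.not_false_eq_true, _root_.Fin.succ_ne_zero, _root_.iff_false, _root_.Decidable.not_not, _root_.Fin.succ_zero_eq_one, _root_.IsEmpty.forall_iff, _root_.and_self])
  obtain ⟨j, hj⟩ := hcompl
  rw [hj] at h1
  have h3 : 1 + Nat.card (X φ 2 (sr j)) ∣ 9 := by
    fin_cases j
    · show 1 + Nat.card (X φ 2 (sr 0)) ∣ _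
      rw [c0]
      norm_num
    · show 1 + Nat.card (X φ 2 (sr 1)) ∣ _
      rw [c1]
      norm_num
  have hPd : Nat.card ↥(PJ cs isCartan (T K 2) (X φ 2) {j}) ∣ 2 ^ m * 63 := by
    rw [hPJ j]
    obtain ⟨s, hs⟩ := h3
    refine ⟨s, ?_⟩
    calc 2 ^ m * 63 = 2 ^ m * 7 * 9 := by ring
      _ = _ := by rw [hs]; ring
  constructor
  · refine ⟨m, (Subgroup.card_dvd_of_le h1).trans ?_⟩
    rw [Cfsg.Agent.Nodes.CardSup.card_cj]
    exact hPd
  · intro x hx hxo
    set P' := PJ cs isCartan (T K 2) (X φ 2) {j} with hP'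
    have hTP : T K 2 ≤ P' := T_le_LJ.trans LJ_le_PJ
    have hx' : g⁻¹ * x * g ∈ P' := by
      have := h1 hx
      rwa [mem_cj] at this
    -- the torus is a Sylow 7-subgroup of `P'`
    have hTc : Nat.card ((T K 2).subgroupOf P') = 7 := by
      rw [Nat.card_congr (Subgroup.subgroupOfEquivOfLe hTP).toEquiv, hT]
    have hTp : IsPGroup 7 ((T K 2).subgroupOf P') := IsPGroup.of_card (n := 1) (by rw [hTc, pow_one])
    have hTi : ¬ 7 ∣ ((T K 2).subgroupOf P').index := by
      intro h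
      have h4 := ((T K 2).subgroupOf P').card_mul_index
      rw [hTc] at h4
      have h5 : 7 * 7 ∣ 2 ^ m * 63 := by
        refine dvd_trans ?_ hPd
        rw [← h4]
        exact Nat.mul_dvd_mul_left 7 h
      have h6 : 7 * 7 ∣ 63 :=
        (Nat.Coprime.pow_right m (by norm_num : Nat.Coprime (7 * 7) 2)).dvd_of_dvd_mul_left h5
      norm_num at h6
    have hx7 : (g⁻¹ * x * g) ^ 7 = 1 := by
      have e : (g⁻¹ * x * g) ^ 7 = g⁻¹ * x ^ 7 * g := by
        have := conj_pow (a := g⁻¹) (b := x) (i := 7)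
        rwa [inv_inv] at this
      rw [e, ← hxo, pow_orderOf_eq_one]
      group
    obtain ⟨c, hc⟩ := conj_into hTp hTi (x := (⟨g⁻¹ * x * g, hx'⟩ : P')) (k := 1)
      (Subtype.ext (by rw [pow_one]; exact hx7))
    have hc' : (c : ↥(twistedD4 K 2)) * (g⁻¹ * x * g) * (c : ↥(twistedD4 K 2))⁻¹ ∈ T K 2 :=
      Subgroup.mem_subgroupOf.1 hc
    -- an involution commuting with the torus
    have hX0 : Nat.card (X φ 2 (sr 0)) = 2 := c0
    obtain ⟨z, hz, hXz⟩ := exists_zpowers Nat.prime_two hX0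
    have hzt : ∀ t ∈ T K 2, t * z = z * t := by
      intro t ht
      have h4 := R.tor _ (isRoot_sr cs isCartan 0) t ht
      have h5 : t * z * t⁻¹ ∈ X φ 2 (sr 0) := by
        rw [← h4, mem_cj]
        have e : t⁻¹ * (t * z * t⁻¹) * t = z := by group
        rw [e, hXz]
        exact Subgroup.mem_zpowers z
      rw [hXz] at h5
      exact comm_of_two hz h5
    have h4 := hzt _ hc'
    refine ⟨(g * (c : ↥(twistedD4 K 2))⁻¹) * z * (g * (c : ↥(twistedD4 K 2))⁻¹)⁻¹,
      (Cfsg.Agent.H439.Der.orderOf_conj _ _).trans hz, ?_⟩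
    have e1 : (g * (c : ↥(twistedD4 K 2))⁻¹) * z * (g * (c : ↥(twistedD4 K 2))⁻¹)⁻¹ * x =
        g * (c : ↥(twistedD4 K 2))⁻¹ * (z * (c * (g⁻¹ * x * g) * (c : ↥(twistedD4 K 2))⁻¹)) * c * g⁻¹ := by group
    have e2 : x * ((g * (c : ↥(twistedD4 K 2))⁻¹) * z * (g * (c : ↥(twistedD4 K 2))⁻¹)⁻¹) =
        g * (c : ↥(twistedD4 K 2))⁻¹ * ((c * (g⁻¹ * x * g) * (c : ↥(twistedD4 K 2))⁻¹) * z) * c * g⁻¹ := by group
    rw [e1, e2, h4]

end Cfsg.Agent.H788.Der.DTwo
end
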