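import Cfsg.Agent.H788.Der.Near
import Cfsg.Agent.H394.Der.NtcD4
import Cfsg.Agent.Prune
set_option linter.all false
prune_inst 0x7f00000000000000000000000000000000000000000000000000000000000000000000000000000000000000000000000000000000000000000000000000000000000000000000000000000000000000003fffffffffffffffffffffffffffbeffbdffffffff
open scoped Cfsg.Agent.FastGrp

/-!
# `NTC (G₂(q))`, `q ≥ 5`, and `NTC (³D₄(q))`, `q ≥ 3` (helper788, task 2983)
-/

set_option autoImplicit false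

namespace Cfsg.Agent.H788.Der

open Subgroup Cfsg Cfsg.Lie Cfsg.Agent.H439.Der Cfsg.Agent.H129.CycT Cfsg.Agent.H129.CycCard
open Cfsg.Agent.H378.ExcAdj Cfsg.Agent

/-! ### arithmetic -/

theorem prime_dvd_smooth {q : ℕ} : 2 ∣ q * (q ^ 2 - 1) ∧ 3 ∣ q * (q ^ 2 - 1) := by
  constructor
  · rcases Nat.even_or_odd q with h | ⟨k, hk⟩
    · exact h.two_dvd.mul_right _
    · refine Dvd.dvd.mul_left ?_ _
      have e : q ^ 2 = 2 * (2 * k ^ 2 + 2 * k) + 1 := by rw [hk]; ring
      rw [e]; simp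
  · have h1 : q % 3 = 0 ∨ q % 3 = 1 ∨ q % 3 = 2 := by omega
    rcases h1 with h1 | h1
    · exact (Nat.dvd_of_mod_eq_zero h1).mul_right _
    · refine Dvd.dvd.mul_left ?_ _
      have h4 : q ^ 2 % 3 = 1 := by
        rcases h1 with h1 | h1 <;> rw [Nat.pow_mod, h1]
      omega

/-- two neighbours from three primes -/
theorem two_of_three {T : Type*} [Group T] [Finite T] {v a b c : ℕ} (hab : a ≠ b) (hac : a ≠ c) (hbc : b ≠ c)
    (h : ∀ w ∈ ({a, b, c} : Set ℕ), v ≠ w → Cfsg.Agent.H94.PG.Adj T v w) : ¬ SCC T v := by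
  by_cases h1 : v = a
  · exact not_SCC_of_two_adj (h b (by simp) (by omega)) (h c (by simp) (by omega)) hbc
  by_cases h2 : v = b
  · exact not_SCC_of_two_adj (h a (by simp) (by omega)) (h c (by simp) (by omega)) hac
  · exact not_SCC_of_two_adj (h a (by simp) (by omega)) (h b (by simp) (by omega)) hab

section G2

variable {F : Type} [Field F] [Fintype F]

end G2

section D4

variable {K : Type} [Field K] [Fintype K] {q : ℕ}

/-- the primes not dividing `q⁴ - q² + 1` -/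
theorem not_SCC_d4_near (hq : IsPrimePow q) (hK : Fintype.card K = q ^ 3) {v : ℕ} (hv : v.Prime)
    (h1 : v ∣ q ^ 3 * (q ^ 6 - 1)) : ¬ SCC ↥(twistedD4 K q) v := by
  have hs := prime_dvd_smooth (q := q)
  have e6 : q ^ 6 - 1 = (q ^ 2 - 1) * (q ^ 4 + q ^ 2 + 1) := by
    have h2 : 1 ≤ q ^ 2 := Nat.one_le_pow _ _ hq.pos
    have h6 : 1 ≤ q ^ 6 := Nat.one_le_pow _ _ hq.pos
    zify [h2, h6]; ring
  have hle : ∀ w : ℕ, w ∣ q * (q ^ 2 - 1) → w ∣ q ^ 3 * (q ^ 6 - 1) := by
    intro w hw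
    refine hw.trans ?_
    rw [e6]
    exact ⟨q ^ 2 * (q ^ 4 + q ^ 2 + 1), by ring⟩
  by_cases hn : v ∣ q * (q ^ 2 - 1)
  · -- a prime divisor of `q⁴ + q² + 1` different from `2` and `3`
    obtain ⟨r, hr, hr3, hr2, hrd⟩ := H378.ExcNear.exists_three hq.two_le
    have hrd' : r ∣ q ^ 3 * (q ^ 6 - 1) := by
      have e : q ^ 4 + q ^ 2 + 1 = (q ^ 2 + q + 1) * (q ^ 2 - q + 1) := by
        have h0 : q ≤ q ^ 2 := Nat.le_self_pow (by norm_num) q
        zify [h0]; ring
      rw [e6, e]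
      exact ((hrd.mul_right _).mul_left _).mul_left _
    refine two_of_three (a := 2) (b := 3) (c := r) (by norm_num) hr2.symm hr3.symm ?_
    intro w hw hne
    simp only [Set.mem_insert_iff, Set.mem_singleton_iff] at hw
    rcases hw with rfl | rfl | rfl
    · exact adj_d4 hq hK hv Nat.prime_two hne hn (hle _ hs.1)
    · exact adj_d4 hq hK hv Nat.prime_three hne hn (hle _ hs.2)
    · exact adj_d4 hq hK hv hr hne hn hrd'
  · have h2 : v ≠ 2 := fun h => hn (h ▸ hs.1)
    have h3 : v ≠ 3 := fun h => hn (h ▸ hs.2)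
    have hsym : ∀ {w : ℕ}, H94.PG.Adj ↥(twistedD4 K q) w v → H94.PG.Adj ↥(twistedD4 K q) v w := fun h => h.symm
    exact not_SCC_of_two_adj (hsym (adj_d4 hq hK Nat.prime_two hv h2.symm hs.1 h1))
      (hsym (adj_d4 hq hK Nat.prime_three hv h3.symm hs.2 h1)) (by norm_num)

end D4

end Cfsg.Agent.H788.Der
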