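import Cfsg.Agent.H348.Der.Class
import Cfsg.Agent.H439.Der.Tools
import Cfsg.Agent.H946.RadD4_m3
import Cfsg.Agent.H129.CycCard
import Cfsg.Agent.H94.Sp.Base_m3
import Cfsg.Agent.Prune
set_option linter.all false
prune_inst 0x7f00000000000000000000000000000000000000000000000000000000000000000000000000000000000000000000000000000000000000000000000000000000000000000000000000000000000000003fffffffffffffffffffffffffffbeffbdffffffff
open scoped Cfsg.Agent.FastGrp

/-!
# Three classes of derangements: criteria for `¬ SCC` (helper788, task 2983)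

* `not_SCC_of_two_adj` : two neighbours in the prime graph;
* `not_SCC_of_cyc` : a cyclic self-centralising subgroup with many `v`-singular elements;
* `not_SCC_of_cycCard` : the same from `CycCard T v N 1` and the order of `T`.
-/

set_option autoImplicit false

namespace Cfsg.Agent.H788.Der

open Subgroup Cfsg.Agent.H439.Der Cfsg.Agent.H129.CycT Cfsg.Agent.H129.CycCard

variable {T : Type*} [Group T]

/-- two neighbours in the prime graph -/
theorem not_SCC_of_two_adj [Finite T] {v w w' : ℕ} (h : Cfsg.Agent.H94.PG.Adj T v w) (h' : Cfsg.Agent.H94.PG.Adj T v w') (hw : w ≠ w') :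
    ¬ SCC T v := by
  obtain ⟨hv, h1, hne, x, y, hx, hy, hc⟩ := h
  obtain ⟨-, h1', hne', x', y', hx', hy', hc'⟩ := h'
  have o1 : orderOf (x * y) = v * w := by
    rw [hc.orderOf_mul_eq_mul_orderOf_of_coprime (by rw [hx, hy]; exact (Nat.coprime_primes hv h1).2 hne), hx, hy]
  have o2 : orderOf (x' * y') = v * w' := by
    rw [hc'.orderOf_mul_eq_mul_orderOf_of_coprime (by rw [hx', hy']; exact (Nat.coprime_primes hv h1').2 hne'), hx', hy']
  refine not_SCC_of_orders (x := x) (y := x * y) (z := x' * y') (by rw [hx]) (by rw [o1]; exact dvd_mul_right _ _)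
    (by rw [o2]; exact dvd_mul_right _ _) ?_ ?_ ?_
  · rw [hx, o1]
    intro h
    have := hv.two_le
    have := h1.two_le
    nlinarith
  · rw [hx, o2]
    intro h
    have := hv.two_le
    have := h1'.two_le
    nlinarith
  · rw [o1, o2]
    exact fun h => hw (Nat.eq_of_mul_eq_mul_left hv.pos h)

end Cfsg.Agent.H788.Der
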